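import Groth.Agent.GrpSchField.Orbit
import Groth.Agent.GrpSchField.Points
import Groth.Agent.GrpSchField.Subgroup
import Groth.Agent.GrpdClosed.Sub

/-!
# An irreducible scheme with a transitive group action is quasi-compact
-/

set_option autoImplicit false
set_option linter.style.haveILetI false
universe u

open CategoryTheory CategoryTheory.Limits MonoidalCategory CartesianMonoidalCategory MonObj GrpObj AlgebraicGeometry

noncomputable section

namespace Groth.Agent.TransitiveQC

open GrpSchField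

variable {k : Type u} [Field k] {G X : Over (Spec (CommRingCat.of k))} [GrpObj G] (a : AlgGrp.Action G X)

theorem universallyOpen_whisker {T T' : Over (Spec (CommRingCat.of k))} (φ : T ⟶ T') [UniversallyOpen φ.left] :
    UniversallyOpen (G ◁ φ).left := by
  rw [← id_tensorHom, Over.tensorHom_left]
  exact MorphismProperty.pullbackMap (P := @UniversallyOpen) (MorphismProperty.id_mem _ _) inferInstance
    (Over.w (𝟙 G)).symm (Over.w φ).symm

theorem isOpenMap_act : IsOpenMap a.act.left := by
  have h : a.act = (actShear a).hom ≫ snd G X := by simp [actShear]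
  rw [h, Over.comp_left]
  haveI : IsIso (actShear a).hom.left := isIso_left _
  exact ((actShear a).hom.left ≫ (snd G X).left).isOpenMap

/-- The open set of pairs moved into a nonempty open is dense over the generic point. -/
theorem exists_mem_fibre [IrreducibleSpace X.left] {ξ : X.left} (hξ : IsGenericPoint ξ Set.univ)
    {V : X.left.Opens} (hV : (V : Set X.left).Nonempty) {O : Set (G ⊗ pt ξ).left} (hO : IsOpen O) (hne : O.Nonempty) :
    ∃ w ∈ O, a.act.left ((G ◁ ptι ξ).left w) ∈ V := by
  haveI : IsPreimmersion (G ◁ ptι ξ).left := by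
    rw [← id_tensorHom, Over.tensorHom_left]
    exact MorphismProperty.pullbackMap (P := @IsPreimmersion) (MorphismProperty.id_mem _ _)
      (inferInstanceAs (IsPreimmersion (X.left.fromSpecResidueField ξ)))
      (Over.w (𝟙 G)).symm (Over.w (ptι ξ)).symm
  obtain ⟨O', hO', rfl⟩ := (G ◁ ptι ξ).left.isEmbedding.isInducing.isOpen_iff.1 hO
  have hD : Dense (a.act.left ⁻¹' (V : Set X.left)) :=
    (V.2.dense hV).preimage (isOpenMap_act a)
  have hne' : O'.Nonempty := by obtain ⟨w, hw⟩ := hne; exact ⟨_, hw⟩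
  have hO'' : (O' ∩ a.act.left ⁻¹' (V : Set X.left)).Nonempty := hD.inter_open_nonempty _ hO' hne'
  have him : IsOpen ((snd G X).left '' (O' ∩ a.act.left ⁻¹' (V : Set X.left))) :=
    (snd G X).left.isOpenMap _ (hO'.inter (V.2.preimage a.act.left.continuous))
  obtain ⟨w', ⟨hw1, hw2⟩, hw3⟩ : ξ ∈ (snd G X).left '' (O' ∩ a.act.left ⁻¹' (V : Set X.left)) :=
    hξ.mem_open_set_iff him |>.2 (by simpa using hO''.image (snd G X).left)
  obtain ⟨w, rfl⟩ : w' ∈ Set.range (G ◁ ptι ξ).left := by
    rw [← id_tensorHom, range_tensorHom, range_ptι]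
    exact ⟨⟨_, rfl⟩, hw3⟩
  exact ⟨w, hw1, hw2⟩

theorem exists_mul_mem [IrreducibleSpace X.left] (hΦ : Surjective (lift a.act (snd G X)).left)
    (U : G.left.Opens) (hU : (U : Set G.left).Nonempty) (V : X.left.Opens) (hV : (V : Set X.left).Nonempty)
    (x : X.left) : ∃ z : (G ⊗ X).left, (fst G X).left z ∈ U ∧ (snd G X).left z = x ∧ a.act.left z ∈ V := by
  obtain ⟨p, hp1, hp2⟩ := Scheme.Pullback.exists_preimage_pullback (f := X.hom) (g := X.hom) x (genericPoint X.left)
    (Subsingleton.elim (α := Spec (CommRingCat.of k)) _ _)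
  obtain ⟨q, rfl⟩ := (lift a.act (snd G X)).left.surjective p
  have hx : a.act.left q = x := (lift_fst_apply a.act (snd G X) q).symm.trans hp1
  have hξ : (snd G X).left q = genericPoint X.left := (lift_snd_apply a.act (snd G X) q).symm.trans hp2
  let ξ := (snd G X).left q
  have hgen : IsGenericPoint ξ Set.univ := by rw [show ξ = _ from hξ]; exact genericPoint_spec X.left
  let T := pt q
  let gT : T ⟶ G := ptι q ≫ fst G X
  let θ : G ⊗ T ≅ G ⊗ T :=
    { hom := lift (fst G T * (snd G T ≫ gT)) (snd G T)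
      inv := lift (fst G T * (snd G T ≫ gT)⁻¹) (snd G T)
      hom_inv_id := by ext <;> simp [comp_mul, comp_inv, _root_.mul_assoc]
      inv_hom_id := by ext <;> simp [comp_mul, comp_inv, _root_.mul_assoc] }
  let φ : T ⟶ pt ξ := Over.homMk (Spec.map ((snd G X).left.residueFieldMap q)) (by
    show Spec.map _ ≫ X.left.fromSpecResidueField _ ≫ X.hom = (G ⊗ X).left.fromSpecResidueField q ≫ (G ⊗ X).hom
    rw [Scheme.Hom.SpecMap_residueFieldMap_fromSpecResidueField_assoc, Over.w])
  have hφ : φ ≫ ptι ξ = ptι q ≫ snd G X :=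
    Over.OverMorphism.ext (Scheme.Hom.SpecMap_residueFieldMap_fromSpecResidueField _ _)
  haveI : UniversallyOpen φ.left :=
    GrpdClosed.universallyOpen_to_field (k := X.left.residueField ξ) (Iso.refl _) φ.left
  haveI := universallyOpen_whisker (G := G) φ
  haveI : IsIso θ.hom.left := isIso_left θ
  let O : Set (G ⊗ T).left := (fst G T).left ⁻¹' (U : Set G.left)
  have hOne : O.Nonempty := by
    obtain ⟨u, hu⟩ := hU
    obtain ⟨o, ho, -⟩ := Scheme.Pullback.exists_preimage_pullback (f := G.hom) (g := T.hom) u (ptPt q)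
      (Subsingleton.elim (α := Spec (CommRingCat.of k)) _ _)
    exact ⟨o, show (fst G T).left o ∈ U from ho ▸ hu⟩
  have hOo : IsOpen O := U.2.preimage (fst G T).left.continuous
  obtain ⟨w, ⟨o1, ⟨o, ho, rfl⟩, rfl⟩, hw⟩ := exists_mem_fibre a hgen hV
    ((G ◁ φ).left.isOpenMap _ (θ.hom.left.isOpenMap _ hOo)) ((hOne.image _).image _)
  let m : G ⊗ T ⟶ G ⊗ X := lift (fst G T) (snd G T ≫ ptι q ≫ a.act)
  have hm : m ≫ a.act = θ.hom ≫ G ◁ φ ≫ G ◁ ptι ξ ≫ a.act := by
    rw [← whiskerLeft_comp_assoc, hφ]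
    have e1 : lift (snd G T ≫ gT) (snd G T ≫ ptι q ≫ snd G X) ≫ a.act = snd G T ≫ ptι q ≫ a.act := by
      have : lift (snd G T ≫ gT) (snd G T ≫ ptι q ≫ snd G X) = snd G T ≫ ptι q := by
        apply CartesianMonoidalCategory.hom_ext <;> simp [gT]
      rw [this, Category.assoc]
    have e2 : θ.hom ≫ G ◁ (ptι q ≫ snd G X) =
        lift (fst G T * (snd G T ≫ gT)) (snd G T ≫ ptι q ≫ snd G X) := by
      apply CartesianMonoidalCategory.hom_ext <;> simp [θ]
    rw [← Category.assoc θ.hom, e2, lift_act_mul, e1]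
  refine ⟨m.left o, ?_, ?_, ?_⟩
  · rw [lift_fst_apply]; exact ho
  · rw [lift_snd_apply, comp_left_apply, comp_left_apply, ptι_apply]; exact hx
  · rw [← comp_left_apply, hm]
    simp only [comp_left_apply]
    exact hw

theorem compactSpace [IrreducibleSpace X.left] (hΦ : Surjective (lift a.act (snd G X)).left) :
    CompactSpace X.left := by
  obtain ⟨_, ⟨U, hU, rfl⟩, hUe, -⟩ := G.left.isBasis_affineOpens.exists_subset_of_mem_open (Set.mem_univ (e G)) isOpen_univ
  obtain ⟨x₀⟩ := (inferInstance : Nonempty X.left)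
  obtain ⟨_, ⟨V, hV, rfl⟩, hVx, -⟩ := X.left.isBasis_affineOpens.exists_subset_of_mem_open (Set.mem_univ x₀) isOpen_univ
  let U' : Over (Spec (CommRingCat.of k)) := Over.mk ((Scheme.Opens.ι (X := G.left) U) ≫ G.hom)
  let V' : Over (Spec (CommRingCat.of k)) := Over.mk ((Scheme.Opens.ι (X := X.left) V) ≫ X.hom)
  let j : U' ⟶ G := Over.homMk (Scheme.Opens.ι (X := G.left) U) rfl
  let l : V' ⟶ X := Over.homMk (Scheme.Opens.ι (X := X.left) V) rfl
  haveI : IsAffine U'.left := hU
  haveI : IsAffine V'.left := hV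
  haveI : CompactSpace (U' ⊗ V').left :=
    haveI : IsAffine (U' ⊗ V').left := inferInstanceAs (IsAffine (pullback U'.hom V'.hom))
    inferInstance
  have hr : Set.range ((j ⊗ₘ l) ≫ (actShear a).inv ≫ snd G X).left = Set.univ := by
    refine Set.eq_univ_of_forall fun x => ?_
    obtain ⟨z, h1, h2, h3⟩ := exists_mul_mem a hΦ U ⟨_, hUe⟩ V ⟨_, hVx⟩ x
    obtain ⟨w, hw⟩ : (actShear a).hom.left z ∈ Set.range (j ⊗ₘ l).left := by
      rw [range_tensorHom]
      refine ⟨?_, ?_⟩
      · rw [show Set.range j.left = (U : Set G.left) from Scheme.Opens.range_ι (X := G.left) U, Set.mem_preimage]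
        rw [show (actShear a).hom = lift (fst G X) a.act from rfl, lift_fst_apply]
        exact h1
      · rw [show Set.range l.left = (V : Set X.left) from Scheme.Opens.range_ι (X := X.left) V, Set.mem_preimage]
        rw [show (actShear a).hom = lift (fst G X) a.act from rfl, lift_snd_apply]
        exact h3
    refine ⟨w, ?_⟩
    rw [comp_left_apply, comp_left_apply, hw, ← comp_left_apply, ← comp_left_apply, ← Category.assoc,
      Iso.hom_inv_id, Category.id_comp]
    exact h2
  exact ⟨hr ▸ isCompact_range (Scheme.Hom.continuous _)⟩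

end Groth.Agent.TransitiveQC
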